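import Cfsg.Agent.S5125
import Cfsg.Agent.S5128
import Cfsg.Agent.H90.NormalizerSystem
import Cfsg.Agent.H91.Nilpotency
import Cfsg.Agent.FusionSys.KNormalizer
import Cfsg.Agent.H89.Series
import Cfsg.Agent.PGroups.Basic
import Cfsg.Agent.Components.PLocal

/-!
Saturated systems in which the subgroups of one order are weakly embedded and have inner normalizer
systems: auxiliary lemmas.
-/

set_option autoImplicit false
set_option linter.style.haveILetI false

namespace Cfsg.Agent.H91.WeakEmb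

open Cfsg Cfsg.FusionSystem Cfsg.Agent.FusionSys
open Cfsg.FusionSystem (centralizerIn normalizerIn)

variable {Ω : Type*} [Group Ω] {S : Subgroup Ω}

/-- The hypothesis for the order `d`. -/
structure Hyp (F : FusionSystem S) (d : ℕ) : Prop where
  weak : ∀ Q : Subgroup Ω, Q ≤ S → Nat.card Q = d →
    ∃ P : Subgroup Ω, F.StronglyClosed P ∧ F.StronglyClosed (Q ⊔ P) ∧ F.StronglyClosed (Q ⊓ P)
  inner : ∀ H : Subgroup Ω, F.IsFullyNormalized H → Nat.card H = d →
    ∀ N : FusionSystem (normalizerIn S H), F.IsNormalizerSystem H N →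
      ∀ P : Subgroup Ω, N.Hom P = (innerFusionSystem (normalizerIn S H)).Hom P

/-- All maps are conjugations modulo `K`. -/
def ModK (F : FusionSystem S) (K : Subgroup Ω) : Prop :=
  ∀ (P : Subgroup Ω) (f : Ω → Ω), IsMap F P f → ∃ g ∈ S, ∀ x ∈ P, (g * x * g⁻¹)⁻¹ * f x ∈ K

variable {F : FusionSystem S} {p : ℕ}

theorem sub_normalizer_of_closed {K : Subgroup Ω} (hK : F.StronglyClosed K) :
    S ≤ Subgroup.normalizer (K : Set Ω) := fun s hs => by
  refine Subgroup.mem_normalizer_iff.mpr fun b => ⟨fun hb => H89.conj_mem_of_stronglyClosed hK hs hb,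
    fun hb => ?_⟩
  have h := H89.conj_mem_of_stronglyClosed hK (S.inv_mem hs) hb
  rwa [show s⁻¹ * (s * b * s⁻¹) * s⁻¹⁻¹ = b by group] at h

variable [Finite S] [Fact p.Prime]

theorem normalizerIn_eq {H : Subgroup Ω} (hn : S ≤ Subgroup.normalizer (H : Set Ω)) :
    normalizerIn S H = S := le_antisymm normalizerIn_le fun s hs => ⟨hs, hn hs⟩

theorem fullyNormalized_of_normal {H : Subgroup Ω} (hH : H ≤ S)
    (hn : S ≤ Subgroup.normalizer (H : Set Ω)) : F.IsFullyNormalized H :=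
  ⟨hH, fun R _ => by rw [normalizerIn_eq hn]; exact Subgroup.card_le_of_le normalizerIn_le⟩

/-- A map stabilizing a fully normalized subgroup of order `d` is a conjugation. -/
theorem Hyp.conj_of_stab {d : ℕ} (h : Hyp F d) {H P : Subgroup Ω} (hH : F.IsFullyNormalized H)
    (hd : Nat.card H = d) {f : Ω → Ω} (hf : IsMap F P f) (hHP : H ≤ P)
    (hPN : P ≤ normalizerIn S H) (hfH : ∀ x ∈ H, f x ∈ H) :
    ∃ g ∈ normalizerIn S H, ∀ x ∈ P, f x = g * x * g⁻¹ := by
  haveI := finite_of_le hH.1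
  have him : f '' (H : Set Ω) = H := (hf.mono hHP).image_eq_of_mapsTo hfH
  have hval : ∀ x ∈ P, f x ∈ normalizerIn S H := fun x hx => by
    refine ⟨hf.mem_S hx, Subgroup.mem_normalizer_iff.2 fun y => ?_⟩
    have key : ∀ w ∈ P, ∀ z ∈ H, (hw : w ∈ Subgroup.normalizer (H : Set Ω)) →
        f w * f z * (f w)⁻¹ ∈ H := fun w hw z hz hwn => by
      rw [← hf.map_conj hw (hHP hz)]
      exact hfH _ ((Subgroup.mem_normalizer_iff.1 hwn z).1 hz)
    constructor
    · intro hy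
      obtain ⟨z, hz, rfl⟩ := him.ge hy
      exact key x hx z hz (hPN hx).2
    · intro hy
      obtain ⟨z, hz, hze⟩ := him.ge hy
      have := key x⁻¹ (P.inv_mem hx) z hz (hPN (P.inv_mem hx)).2
      rw [hze, hf.map_inv hx, inv_inv] at this
      simpa [mul_assoc] using this
  obtain ⟨φ, hφ, hφf⟩ := hf
  have hmem : φ ∈ (H90.normalizerSystem F hH.1).Hom P := by
    refine (H90.mem_normalizerHom_iff F hH.1).2 ⟨hφ, hPN, fun x => hφf x ▸ hval x x.2, ?_⟩
    obtain ⟨ψ, hψ, hψe⟩ : IsMap F (P ⊔ H) f := by rw [sup_eq_left.2 hHP]; exact ⟨φ, hφ, hφf⟩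
    exact ⟨ψ, hψ, fun x => (hψe _).trans (hφf x).symm, fun x => by rw [hψe]; exact hfH x x.2⟩
  rw [h.inner H hH hd _ (H90.isNormalizerSystem_normalizerSystem F hH.1) P] at hmem
  obtain ⟨-, g, hg, hge⟩ := hmem
  exact ⟨g, hg, fun x hx => (hφf ⟨x, hx⟩).symm.trans (hge ⟨x, hx⟩)⟩

theorem eq_inner_iff : (∀ P : Subgroup Ω, F.Hom P = (innerFusionSystem S).Hom P) ↔
    ∀ P f, IsMap F P f → ∃ g ∈ S, ∀ x ∈ P, f x = g * x * g⁻¹ := by
  constructor
  · intro h P f hf
    rw [show F = innerFusionSystem S from ext_hom h] at hf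
    exact (isMap_inner_iff.1 hf).2
  · intro h P
    exact congrArg (fun F : FusionSystem S => F.Hom P) (le_antisymm'
      (le_iff_isMap.2 fun P f hf => isMap_inner_iff.2 ⟨hf.le, h P f hf⟩) (innerFusionSystem_le F))

/-- An abelian strongly closed subgroup of order `d` forces the inner system. -/
theorem inner_of_abelian_closed (hS : IsPGroup p S) (hF : F.IsSaturated p) {d : ℕ} (h : Hyp F d)
    {K : Subgroup Ω} (hK : F.StronglyClosed K) (hab : ⁅K, K⁆ = ⊥) (hd : Nat.card K = d) :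
    ∀ P : Subgroup Ω, F.Hom P = (innerFusionSystem S).Hom P := by
  have hb : F.IsNormal (⊥ : Subgroup Ω) := H89.isNormal_bot F
  have hp1 : IsPGroup p (F.autGroup ⊥) := fun a => ⟨0, by
    rw [pow_zero, pow_one]
    exact Subtype.ext (MulEquiv.ext fun x => Subsingleton.elim _ _)⟩
  have hn : F.IsNormal K := S5125.result p hS F hF K ⊥ hK bot_le hb hab.le hp1
  refine eq_inner_iff.2 fun P f hf => ?_
  obtain ⟨g, hg, hge, hgK⟩ := (isNormal_iff.1 hn).2 P f hf
  have hN := normalizerIn_eq (sub_normalizer_of_closed hK)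
  obtain ⟨a, ha, hae⟩ := h.conj_of_stab (fullyNormalized_of_normal hK.1 (sub_normalizer_of_closed hK)) hd
    hg le_sup_right (hN.symm ▸ hg.le) fun x hx => hgK.le ⟨x, hx, rfl⟩
  exact ⟨a, normalizerIn_le ha, fun x hx => (hge x hx).symm.trans (hae x (Subgroup.mem_sup_left hx))⟩

/-- A normal subgroup of order `d` containing a given smaller normal subgroup. -/
theorem exists_normal_between (hS : IsPGroup p S) {K : Subgroup Ω} (hKS : K ≤ S)
    (hn : S ≤ Subgroup.normalizer (K : Set Ω)) {m : ℕ} (hK : Nat.card K ≤ p ^ m)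
    (hm : p ^ m ≤ Nat.card S) :
    ∃ H : Subgroup Ω, H ≤ S ∧ K ≤ H ∧ S ≤ Subgroup.normalizer (H : Set Ω) ∧ Nat.card H = p ^ m := by
  haveI := finite_of_le hKS
  haveI : (K.subgroupOf S).Normal := Subgroup.normal_subgroupOf_iff_le_normalizer hKS |>.2 hn
  obtain ⟨j, hj⟩ := IsPGroup.iff_card.1 (hS.to_le hKS)
  have hjm : j ≤ m := (Nat.pow_le_pow_iff_right (Fact.out : p.Prime).one_lt).1 (hj ▸ hK)
  have hc : Nat.card (K.subgroupOf S) = Nat.card K :=
    Nat.card_congr (Subgroup.subgroupOfEquivOfLe hKS).toEquiv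
  obtain ⟨M, hMn, hKM, -, hM⟩ := PGroups.exists_normal_card_pow_mul hS (K.subgroupOf S) ⊤ le_top (m - j)
    (by rw [hc, hj, ← pow_add, Nat.sub_add_cancel hjm, Subgroup.card_top]; exact hm)
  refine ⟨M.map S.subtype, Subgroup.map_subtype_le _, fun x hx => ⟨⟨x, hKS hx⟩, hKM hx, rfl⟩, ?_, ?_⟩
  · intro s hs
    refine Subgroup.mem_normalizer_iff.2 fun y => ⟨?_, ?_⟩
    · rintro ⟨z, hz, rfl⟩
      exact ⟨⟨s, hs⟩ * z * ⟨s, hs⟩⁻¹, hMn.conj_mem z hz _, rfl⟩
    · rintro ⟨z, hz, hze⟩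
      refine ⟨⟨s, hs⟩⁻¹ * z * ⟨s, hs⟩⁻¹⁻¹, hMn.conj_mem z hz _, ?_⟩
      have hze' : (z : Ω) = s * y * s⁻¹ := hze
      simp [hze', mul_assoc]
  · rw [Subgroup.card_subtype, hM, hc, hj, ← pow_add, Nat.sub_add_cancel hjm]

/-- Modulo a small strongly closed subgroup everything is inner: then so are the automorphisms of `S`. -/
theorem top_conj {k : ℕ} (hS : IsPGroup p S) (h : Hyp F (p ^ k)) (hk : p ^ k ≤ Nat.card S)
    {K : Subgroup Ω} (hK : F.StronglyClosed K) (hKd : Nat.card K ≤ p ^ k) (hm : ModK F K)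
    {f : Ω → Ω} (hf : IsMap F S f) : ∃ g ∈ S, ∀ x ∈ S, f x = g * x * g⁻¹ := by
  obtain ⟨H, hHS, hKH, hHn, hHc⟩ := exists_normal_between hS hK.1 (sub_normalizer_of_closed hK) hKd hk
  obtain ⟨g, hg, hge⟩ := hm S f hf
  obtain ⟨a, ha, hae⟩ := h.conj_of_stab (fullyNormalized_of_normal hHS hHn) hHc hf hHS
    (normalizerIn_eq hHn).ge fun x hx => by
      have h1 : g * x * g⁻¹ ∈ H := (Subgroup.mem_normalizer_iff.1 (hHn hg) x).1 hx
      have := H.mul_mem h1 (hKH (hge x (hHS hx)))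
      rwa [mul_inv_cancel_left] at this
  exact ⟨a, normalizerIn_le ha, hae⟩

/-- Modulo `K` an automorphism of order prime to `p` is trivial. -/
theorem aut_mod (hS : IsPGroup p S) {K : Subgroup Ω} (hK : F.StronglyClosed K) (hm : ModK F K)
    {R : Subgroup Ω} (hR : R ≤ S) {α : MulAut R} (hα : α ∈ F.autGroup R)
    (hcop : (orderOf α).Coprime p) : ∀ x ∈ R, x⁻¹ * autMap α x ∈ K := by
  obtain ⟨g, hg, hge⟩ := hm R _ ((mem_autGroup_iff hR).1 hα)
  have hKn := sub_normalizer_of_closed hK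
  have hnorm : ∀ n : ℕ, ∀ x ∈ R, (g ^ n * x * (g ^ n)⁻¹)⁻¹ * autMap (α ^ n) x ∈ K := by
    intro n
    induction n with
    | zero => intro x hx; simp [FusionSys.autMap_one hx, K.one_mem]
    | succ n ih =>
      intro x hx
      have hy : autMap (α ^ n) x ∈ R := autMap_mem _ hx
      have h1 := hge _ hy
      have h2 := (Subgroup.mem_normalizer_iff.1 (hKn hg) _).1 (ih x hx)
      rw [pow_succ' α, autMap_mul _ _ hx]
      have h3 := K.mul_mem h2 h1
      rw [pow_succ' g]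
      convert h3 using 1
      group
  set m := orderOf α
  have h1 := hnorm m
  rw [pow_orderOf_eq_one] at h1
  obtain ⟨n, hn⟩ := IsPGroup.iff_orderOf.mp hS ⟨g, hg⟩
  rw [← Subgroup.orderOf_coe] at hn
  have hgm : (orderOf g).Coprime m := by
    rw [show orderOf g = p ^ n from hn]; exact (hcop.pow_right n).symm
  obtain ⟨i, hi⟩ := exists_pow_eq_self_of_coprime (x := g) (n := m) hgm.symm
  let U : Subgroup Ω :=
    { carrier := {s | s ∈ S ∧ ∀ x ∈ R, (s * x * s⁻¹)⁻¹ * x ∈ K}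
      one_mem' := ⟨S.one_mem, fun x _ => by simp [K.one_mem]⟩
      mul_mem' := fun {a b} ha hb => ⟨S.mul_mem ha.1 hb.1, fun x hx => by
        have h2 := K.mul_mem ((Subgroup.mem_normalizer_iff.1 (hKn ha.1) _).1 (hb.2 x hx)) (ha.2 x hx)
        convert h2 using 1
        group⟩
      inv_mem' := fun {a} ha => ⟨S.inv_mem ha.1, fun x hx => by
        have h2 := (Subgroup.mem_normalizer_iff.1 (hKn (S.inv_mem ha.1)) _).1 (K.inv_mem (ha.2 x hx))
        convert h2 using 1
        group⟩ }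
  have hgU : g ^ m ∈ U := ⟨S.pow_mem hg m, fun x hx => by
    have := h1 x hx
    rwa [FusionSys.autMap_one hx] at this⟩
  have hgU' : g ∈ U := hi ▸ U.pow_mem hgU i
  intro x hx
  have := K.mul_mem (K.inv_mem (hgU'.2 x hx)) (hge x hx)
  convert this using 1
  group

end Cfsg.Agent.H91.WeakEmb
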