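import Cfsg.Agent.H91.WeakEmb.Basic
import Cfsg.Agent.S5276

/-!
The criterion, granted that every small strongly closed subgroup has an inner quotient system.
-/

set_option autoImplicit false
set_option linter.style.haveILetI false

namespace Cfsg.Agent.H91.WeakEmb

open Cfsg Cfsg.FusionSystem Cfsg.Agent.FusionSys
open Cfsg.FusionSystem (centralizerIn normalizerIn)

universe u

variable {Ω : Type u} [Group Ω] {S : Subgroup Ω} [Finite S] {F : FusionSystem S} {p : ℕ} [Fact p.Prime]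

theorem inner_of_coprime_trivial (hS : IsPGroup p S) (hF : F.IsSaturated p)
    (h : ∀ R, R ≤ S → ∀ α ∈ F.autGroup R, (orderOf α).Coprime p → ∀ x ∈ R, autMap α x = x) :
    ∀ P : Subgroup Ω, F.Hom P = (innerFusionSystem S).Hom P := by
  intro P
  rw [← eq_inner_of_isPGroup_autGroup hS hF fun R hR => by
    haveI := finite_autGroup F hR
    refine isPGroup_of_no_coprime fun a ha => Subtype.ext ?_
    rw [← Subgroup.orderOf_coe] at ha
    exact aut_ext fun x hx => (h R hR _ a.2 ha x hx).trans (FusionSys.autMap_one hx).symm]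

theorem inner_of_two (hS : IsPGroup p S) (hF : F.IsSaturated p) {K K' : Subgroup Ω}
    (hK : F.StronglyClosed K) (hm : ModK F K) (hK' : F.StronglyClosed K') (hm' : ModK F K')
    (hd : K ⊓ K' = ⊥) : ∀ P : Subgroup Ω, F.Hom P = (innerFusionSystem S).Hom P := by
  refine inner_of_coprime_trivial hS hF fun R hR α hα hc x hx => ?_
  have h : x⁻¹ * autMap α x ∈ (⊥ : Subgroup Ω) :=
    hd ▸ ⟨aut_mod hS hK hm hR hα hc x hx, aut_mod hS hK' hm' hR hα hc x hx⟩
  exact (inv_mul_eq_one.1 (Subgroup.mem_bot.1 h)).symm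

theorem inner_of_card_p (hS : IsPGroup p S) (hF : F.IsSaturated p) {k : ℕ} (h : Hyp F (p ^ k))
    (hk : p ^ k ≤ Nat.card S) (hk1 : 1 ≤ k) {K : Subgroup Ω} (hK : F.StronglyClosed K)
    (hKc : Nat.card K = p) (hm : ModK F K) :
    ∀ P : Subgroup Ω, F.Hom P = (innerFusionSystem S).Hom P := by
  haveI := finite_of_le hK.1
  have hKd : Nat.card K ≤ p ^ k := hKc ▸ Nat.le_self_pow (Nat.one_le_iff_ne_zero.1 hk1) p
  have hn := sub_normalizer_of_closed hK
  -- `K` is central
  have hcent : ∀ s ∈ S, ∀ y ∈ K, s * y * s⁻¹ = y := by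
    haveI : (K.subgroupOf S).Normal := Subgroup.normal_subgroupOf_iff_le_normalizer hK.1 |>.2 hn
    obtain ⟨t, ht, htc, hto⟩ := PGroups.exists_mem_center_orderOf_eq hS (K.subgroupOf S)
      (fun hb => by
        rw [Subgroup.subgroupOf_eq_bot, disjoint_iff, inf_eq_left.2 hK.1] at hb
        rw [hb, Subgroup.card_bot] at hKc
        exact (Fact.out : p.Prime).one_lt.ne hKc)
    have hKt : Subgroup.zpowers (t : Ω) = K := Subgroup.eq_of_le_of_card_ge (Subgroup.zpowers_le.2 ht)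
      (by rw [hKc, Nat.card_zpowers, Subgroup.orderOf_coe, hto])
    intro s hs y hy
    rw [← hKt] at hy
    obtain ⟨i, rfl⟩ := hy
    have hc : Commute s (t : Ω) := congrArg Subtype.val (Subgroup.mem_center_iff.mp htc ⟨s, hs⟩)
    show s * (t : Ω) ^ i * s⁻¹ = (t : Ω) ^ i
    rw [(hc.zpow_right i).eq, mul_inv_cancel_right]
  have hb : F.IsNormal (⊥ : Subgroup Ω) := H89.isNormal_bot F
  have hp1 : IsPGroup p (F.autGroup ⊥) := fun a => ⟨0, by
    rw [pow_zero, pow_one]
    exact Subtype.ext (MulEquiv.ext fun x => Subsingleton.elim _ _)⟩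
  have hab : ⁅K, K⁆ = ⊥ := Subgroup.commutator_eq_bot_iff_le_centralizer.2 fun a ha b hb' => by
    have := hcent b (hK.1 hb') a ha
    calc b * a = b * a * b⁻¹ * b := by group
      _ = a * b := by rw [this]
  have hnorm : F.IsNormal K := S5125.result p hS F hF K ⊥ hK bot_le hb hab.le hp1
  refine inner_of_coprime_trivial hS hF fun R hR α hα hc x hx => ?_
  obtain ⟨g, hg, hge, hgK⟩ := (isNormal_iff.1 hnorm).2 R _ ((mem_autGroup_iff hR).1 hα)
  have hfix : ∀ y ∈ K, g y = y := by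
    have hgm : IsIso F K K g := ⟨hg.mono le_sup_right, hgK⟩
    obtain ⟨G, hG, hGe⟩ := receptive_extend (receptive_of_isFullyNormalized hS hF
      (fullyNormalized_of_normal hK.1 hn)) hgm (N := S) fun s hs =>
        ⟨hs, hn hs, 1, S.one_mem, fun y hy => by
          rw [hcent s hs y hy, one_mul, inv_one, mul_one]⟩
    obtain ⟨a, ha, hae⟩ := top_conj hS h hk hK hKd hm (hG.mono le_sup_left)
    intro y hy
    rw [← hGe y hy, hae y (hK.1 hy), hcent a ha y hy]
  have hxK := aut_mod hS hK hm hR hα hc x hx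
  have hRα := (mem_autGroup_iff hR).1 hα
  set c := x⁻¹ * autMap α x with hcdef
  have hcR : c ∈ R := R.mul_mem (R.inv_mem hx) (autMap_mem _ hx)
  have hαc : autMap α c = c := by rw [← hge c hcR]; exact hfix c hxK
  have hj : ∀ j : ℕ, autMap (α ^ j) x = x * c ^ j := by
    intro j
    induction j with
    | zero => rw [pow_zero, pow_zero, FusionSys.autMap_one hx, mul_one]
    | succ j ih =>
      rw [pow_succ', autMap_mul _ _ hx, ih, hRα.map_mul hx (R.pow_mem hcR j),
        show autMap α x = x * c by rw [hcdef]; group]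
      have : autMap α (c ^ j) = c ^ j := by
        rw [← hge _ (R.pow_mem hcR j)]; exact hfix _ (K.pow_mem hxK j)
      rw [this, mul_assoc, pow_succ']
  have h1 := hj (orderOf α)
  rw [pow_orderOf_eq_one, FusionSys.autMap_one hx, eq_comm, mul_eq_left] at h1
  obtain ⟨n, hn'⟩ := IsPGroup.iff_orderOf.mp (hS.to_le hR) ⟨c, hcR⟩
  rw [← Subgroup.orderOf_coe] at hn'
  have hd1 : orderOf c ∣ orderOf α := orderOf_dvd_of_pow_eq_one h1
  rw [show orderOf c = p ^ n from hn'] at hd1
  have hone : orderOf c = 1 := by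
    rw [show orderOf c = p ^ n from hn']
    exact Nat.eq_one_of_dvd_coprimes (hc.symm.pow_left n) dvd_rfl hd1
  exact (inv_mul_eq_one.1 (orderOf_eq_one_iff.1 hone)).symm

theorem inner_of_le_frattini (hS : IsPGroup p S) (hF : F.IsSaturated p) {k : ℕ} (h : Hyp F (p ^ k))
    (hk : p ^ k ≤ Nat.card S) {K : Subgroup Ω} (hK : F.StronglyClosed K) (hKd : Nat.card K ≤ p ^ k)
    (hm : ModK F K) (hKΦ : K ≤ (frattini ↥S).map S.subtype) :
    ∀ P : Subgroup Ω, F.Hom P = (innerFusionSystem S).Hom P := by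
  refine (S5276.result p hS F hF).2 ⟨fun N hN P => ?_, ?_⟩
  · refine Set.Subset.antisymm (fun φ hφ => ?_) fun φ hφ => innerFusionSystem_le N _ hφ
    rw [hN P] at hφ
    obtain ⟨hφ', hP, -, ψ, hψ, hψe, -⟩ := hφ
    obtain ⟨a, ha, hae⟩ := top_conj hS h hk hK hKd hm ((isMap_of_mem hψ).mono le_sup_right)
    refine ⟨hP, a, ⟨ha, Subgroup.le_normalizer ha⟩, fun x => ?_⟩
    rw [← hψe x, ← homFun_coe ψ (Subgroup.inclusion le_sup_left x)]
    exact hae x (normalizerIn_le (hP x.2))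
  · refine stronglyClosed_iff.2 ⟨Subgroup.map_subtype_le _, fun R f hR hf x hx => ?_⟩
    obtain ⟨g, hg, hge⟩ := hm R f hf
    obtain ⟨y, hy, hye⟩ := hR hx
    have h1 : g * x * g⁻¹ ∈ (frattini ↥S).map S.subtype :=
      ⟨⟨g, hg⟩ * y * ⟨g, hg⟩⁻¹, (inferInstance : (frattini ↥S).Normal).conj_mem y hy ⟨g, hg⟩,
        by rw [← hye]; rfl⟩
    have := Subgroup.mul_mem _ h1 (hKΦ (hge x hx))
    rwa [mul_inv_cancel_left] at this

/-- A nonabelian subgroup is not the only subgroup of its order containing a central element of order `p`. -/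
theorem exists_other (hS : IsPGroup p S) {K : Subgroup Ω} (hKS : K ≤ S) {k : ℕ}
    (hKc : Nat.card K = p ^ k) (hlt : K < S) (hna : ⁅K, K⁆ ≠ ⊥) {z : Ω} (hz : z ∈ K)
    (hzc : ∀ s ∈ S, z * s = s * z) :
    ∃ H : Subgroup Ω, H ≤ S ∧ z ∈ H ∧ Nat.card H = p ^ k ∧ H ≠ K := by
  by_contra hcon
  push Not at hcon
  obtain ⟨m, hm⟩ := IsPGroup.iff_card.1 hS
  have hk : k < m := by
    by_contra hle
    exact hlt.ne (Subgroup.eq_of_le_of_card_ge hKS
      (by rw [hm, hKc]; exact Nat.pow_le_pow_right (Fact.out : p.Prime).pos (not_lt.1 hle)))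
  have hc : Nat.card (K.subgroupOf S) = p ^ k :=
    (Nat.card_congr (Subgroup.subgroupOfEquivOfLe hKS).toEquiv).trans hKc
  obtain ⟨U, hU, hKU⟩ := Sylow.exists_subgroup_card_pow_prime_le p (m := k + 1)
    (hm ▸ Nat.pow_dvd_pow p hk) (K.subgroupOf S) hc (Nat.le_succ k)
  have hex : ∃ u ∈ U, u ∉ K.subgroupOf S := by
    refine SetLike.exists_of_lt (lt_of_le_of_ne hKU fun he => ?_)
    rw [he, hU] at hc
    exact (Nat.pow_lt_pow_right (Fact.out : p.Prime).one_lt k.lt_succ_self).ne hc.symm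
  obtain ⟨u, hu, huK⟩ := hex
  let W : Subgroup S := Subgroup.zpowers ⟨z, hKS hz⟩ ⊔ Subgroup.zpowers u
  have hWU : W ≤ U := sup_le (Subgroup.zpowers_le.2 (hKU hz)) (Subgroup.zpowers_le.2 hu)
  have hUW : U ≤ W := by
    by_contra hne
    obtain ⟨j, hj⟩ := IsPGroup.iff_card.1 (hS.to_subgroup W)
    have hjk : j ≤ k := by
      by_contra hjk
      exact hne (Subgroup.eq_of_le_of_card_ge hWU
        (by rw [hj, hU]; exact Nat.pow_le_pow_right (Fact.out : p.Prime).pos (not_le.1 hjk))).ge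
    obtain ⟨H, hH, hWH⟩ := Sylow.exists_subgroup_card_pow_prime_le p
      (hm ▸ Nat.pow_dvd_pow p hk.le) W hj hjk
    have hHK := hcon (H.map S.subtype) (Subgroup.map_subtype_le _)
      ⟨⟨z, hKS hz⟩, hWH (Subgroup.mem_sup_left (Subgroup.mem_zpowers _)), rfl⟩
      (by rw [Subgroup.card_subtype, hH])
    have : (u : Ω) ∈ H.map S.subtype := ⟨u, hWH (Subgroup.mem_sup_right (Subgroup.mem_zpowers _)), rfl⟩
    exact huK (hHK ▸ this)
  apply hna
  rw [Subgroup.commutator_eq_bot_iff_le_centralizer]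
  intro a ha b hb
  let zz : S := ⟨z, hKS hz⟩
  have hzz : ∀ v : S, Commute zz v := fun v => Subtype.ext (hzc v v.2)
  have key : ∀ v ∈ W, ∀ w ∈ W, Commute v w := by
    have hu' : W ≤ Subgroup.centralizer {u} := sup_le
      (Subgroup.zpowers_le.2 (Subgroup.mem_centralizer_singleton_iff.2 (hzz u)))
      (Subgroup.zpowers_le.2 (Subgroup.mem_centralizer_singleton_iff.2 rfl))
    intro v hv w hw
    have hWv : W ≤ Subgroup.centralizer {v} := sup_le
      (Subgroup.zpowers_le.2 (Subgroup.mem_centralizer_singleton_iff.2 (hzz v)))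
      (Subgroup.zpowers_le.2 (Subgroup.mem_centralizer_singleton_iff.2
        (Subgroup.mem_centralizer_singleton_iff.1 (hu' hv)).symm))
    exact (Subgroup.mem_centralizer_singleton_iff.1 (hWv hw)).symm
  exact congrArg Subtype.val (key ⟨b, hKS hb⟩ (hUW (hKU hb)) ⟨a, hKS ha⟩ (hUW (hKU ha)))

end Cfsg.Agent.H91.WeakEmb
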