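import Cfsg.Agent.H91.WeakEmb.Pair
import Cfsg.Agent.H49.FactorSaturated

/-!
The nilpotency criterion by weakly embedded subgroups of one order.
-/

set_option autoImplicit false
set_option linter.style.haveILetI false

namespace Cfsg.Agent.H91.WeakEmb

open Cfsg Cfsg.FusionSystem Cfsg.Agent.FusionSys
open Cfsg.FusionSystem (centralizerIn normalizerIn)
open Cfsg.Agent.H89 (mem_preimageAlong preimageAlong_le ker_le_preimageAlong preimageAlong_imageAlong
  mem_imageAlong KerEq)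

universe u

section Quotient

variable {Ω : Type u} [Group Ω] {S : Subgroup Ω} [Finite S] {F : FusionSystem S} {p : ℕ}

theorem card_preimageAlong {Ω' : Type*} [Group Ω'] {θ : S →* Ω'} {K : Subgroup Ω} (hθ : KerEq θ K)
    (hK : K ≤ S) {P' : Subgroup Ω'} (hP' : P' ≤ θ.range) :
    Nat.card (preimageAlong θ P') = Nat.card P' * Nat.card K := by
  have h1 : Nat.card (preimageAlong θ P') = Nat.card (P'.comap θ) :=
    Nat.card_congr ((P'.comap θ).equivMapOfInjective _ S.subtype_injective).symm.toEquiv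
  have hker : θ.ker = K.subgroupOf S := by
    ext s
    exact hθ s
  have h2 := (θ.ker.subgroupOf (P'.comap θ)).card_eq_card_quotient_mul_card_subgroup
  have h3 : Nat.card (θ.ker.subgroupOf (P'.comap θ)) = Nat.card K := by
    rw [Nat.card_congr (Subgroup.subgroupOfEquivOfLe (MonoidHom.ker_le_comap θ P')).toEquiv, hker]
    exact Nat.card_congr (Subgroup.subgroupOfEquivOfLe hK).toEquiv
  rw [h1, h2, h3]
  congr 1
  let ψ : P'.comap θ →* P' := θ.subgroupComap P'
  have hψ : Function.Surjective ψ := fun y => by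
    obtain ⟨x, hx⟩ := hP' y.2
    exact ⟨⟨x, show θ x ∈ P' from hx ▸ y.2⟩, Subtype.ext hx⟩
  have hkψ : ψ.ker = θ.ker.subgroupOf (P'.comap θ) := by
    ext x
    exact Subtype.ext_iff
  rw [← hkψ]
  exact Nat.card_congr (QuotientGroup.quotientKerEquivOfSurjective ψ hψ).toEquiv

theorem closed_image {Ω' : Type*} [Group Ω'] {θ : S →* Ω'} {S' : Subgroup Ω'} {E : FusionSystem S'}
    {K : Subgroup Ω} (hE : F.IsFactorSystem K θ E) {X : Subgroup Ω}
    (hX : F.StronglyClosed X) : E.StronglyClosed (imageAlong θ X) := by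
  refine stronglyClosed_iff.2 ⟨H89.imageAlong_le.trans hE.2.2.1.le, fun P' f' hP' hf y hy => ?_⟩
  obtain ⟨-, g, hg, hgθ⟩ := H49.factor_map hE hf
  obtain ⟨s, hsX, rfl⟩ := mem_imageAlong.1 (hP' hy)
  obtain ⟨hgS, he⟩ := hgθ s hy
  refine mem_imageAlong.2 ⟨⟨g s, hgS⟩, ?_, he⟩
  have hs : (s : Ω) ∈ preimageAlong θ P' := mem_preimageAlong.2 ⟨s.2, hy⟩
  exact H89.mem_of_stronglyClosed hX hg hs hsX

variable [Fact p.Prime]

theorem modK_of_rec (hS : IsPGroup p S) (hF : F.IsSaturated p) {k : ℕ} (h : Hyp F (p ^ k))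
    (hk : p ^ k < Nat.card S)
    (IH : ∀ {Ω' : Type u} [Group Ω'] {S' : Subgroup Ω'} [Finite S'] (E : FusionSystem S') (k' : ℕ),
      Nat.card S' < Nat.card S → IsPGroup p S' → E.IsSaturated p → 1 ≤ k' → p ^ k' < Nat.card S' →
        Hyp E (p ^ k') → ∀ P : Subgroup Ω', E.Hom P = (innerFusionSystem S').Hom P)
    {K : Subgroup Ω} (hK : F.StronglyClosed K) (hne : K ≠ ⊥) (hKk : Nat.card K < p ^ k) :
    ModK F K := by
  haveI hn := H89.normal_of_stronglyClosed hK
  haveI := finite_of_le hK.1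
  set θ := QuotientGroup.mk' (K.subgroupOf S) with hθdef
  have hθ : KerEq θ K := fun s => QuotientGroup.eq_one_iff s
  have hrange : θ.range = (⊤ : Subgroup (S ⧸ K.subgroupOf S)) :=
    MonoidHom.range_eq_top.2 (QuotientGroup.mk'_surjective _)
  set E := H89.factorSystem θ hθ hK hrange with hEdef
  have hE : F.IsFactorSystem K θ E := H89.isFactorSystem_factorSystem θ hθ hK hrange
  obtain ⟨j, hj⟩ := IsPGroup.iff_card.1 (hS.to_le hK.1)
  have hjk : j < k := (Nat.pow_lt_pow_iff_right (Fact.out : p.Prime).one_lt).1 (hj ▸ hKk)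
  have hpos : 0 < Nat.card K := Nat.card_pos
  have hS' : Nat.card (⊤ : Subgroup (S ⧸ K.subgroupOf S)) * Nat.card K = Nat.card S := by
    rw [← card_preimageAlong hθ hK.1 hrange.ge, ← hrange, MonoidHom.range_eq_map]
    congr 1
    congr 1
    refine le_antisymm (preimageAlong_le _ _) fun x hx => ?_
    exact mem_preimageAlong.2 ⟨hx, ⟨_, trivial, rfl⟩⟩
  have hK1 : 1 < Nat.card K := Subgroup.one_lt_card_iff_ne_bot K |>.2 hne
  have hcard : ∀ Q' : Subgroup (S ⧸ K.subgroupOf S), Nat.card Q' = p ^ (k - j) →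
      Nat.card (preimageAlong θ Q') = p ^ k := fun Q' hQ' => by
    rw [card_preimageAlong hθ hK.1 (hrange.ge.trans' le_top), hQ', hj, ← pow_add,
      Nat.sub_add_cancel hjk.le]
  have hHyp : Hyp E (p ^ (k - j)) := by
    refine ⟨fun Q' _ hQ' => ?_, fun H' hH' hHc N hN P' => ?_⟩
    · obtain ⟨P, hP, hsup, hinf⟩ := h.weak _ (preimageAlong_le θ Q') (hcard Q' hQ')
      have hKQ := ker_le_preimageAlong hθ hK.1 Q'
      have hP1 := S5128.result p hS F hF P K hP hK
      refine ⟨imageAlong θ (P ⊔ K), closed_image hE hP1, ?_, ?_⟩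
      · have heq : Q' ⊔ imageAlong θ (P ⊔ K) = imageAlong θ (preimageAlong θ Q' ⊔ P) := by
          refine le_antisymm (sup_le (fun y hy => ?_) (Subgroup.map_mono fun x hx => ?_)) ?_
          · obtain ⟨s, rfl⟩ := QuotientGroup.mk'_surjective (K.subgroupOf S) y
            exact mem_imageAlong.2 ⟨s, Subgroup.mem_sup_left (mem_preimageAlong.2 ⟨s.2, hy⟩), rfl⟩
          · exact (sup_le le_sup_right (hKQ.trans le_sup_left) : P ⊔ K ≤ _) hx
          · rintro _ ⟨s, hs, rfl⟩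
            have : preimageAlong θ Q' ⊔ P ≤ preimageAlong θ (Q' ⊔ imageAlong θ (P ⊔ K)) :=
              sup_le (fun x hx => by
                obtain ⟨hxS, hx'⟩ := mem_preimageAlong.1 hx
                exact mem_preimageAlong.2 ⟨hxS, Subgroup.mem_sup_left hx'⟩)
                fun x hx => mem_preimageAlong.2 ⟨hP.1 hx, Subgroup.mem_sup_right
                  (mem_imageAlong.2 ⟨⟨x, hP.1 hx⟩, Subgroup.mem_sup_left hx, rfl⟩)⟩
            exact (mem_preimageAlong.1 (this hs)).2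
        rw [heq]
        exact closed_image hE hsup
      · have heq : Q' ⊓ imageAlong θ (P ⊔ K) = imageAlong θ ((preimageAlong θ Q' ⊓ P) ⊔ K) := by
          refine le_antisymm ?_ (le_inf ?_ (Subgroup.map_mono fun x hx => ?_))
          · rintro _ ⟨hyQ, s, hs, rfl⟩
            refine mem_imageAlong.2 ⟨s, ?_, rfl⟩
            obtain ⟨a, ha, b, hb, hab⟩ := mem_sup_split hP.1 (sub_normalizer_of_closed hK)
              (show (s : Ω) ∈ P ⊔ K from hs)
            have hsQ : (s : Ω) ∈ preimageAlong θ Q' := mem_preimageAlong.2 ⟨s.2, hyQ⟩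
            have haQ : a ∈ preimageAlong θ Q' := by
              rw [show a = (s : Ω) * b⁻¹ by rw [hab, mul_inv_cancel_right]]
              exact Subgroup.mul_mem _ hsQ (Subgroup.inv_mem _ (hKQ hb))
            rw [hab]
            exact Subgroup.mul_mem _ (Subgroup.mem_sup_left ⟨haQ, ha⟩) (Subgroup.mem_sup_right hb)
          · rintro _ ⟨s, hs, rfl⟩
            exact (mem_preimageAlong.1 ((sup_le inf_le_left hKQ : _ ≤ preimageAlong θ Q') hs)).2
          · exact (sup_le_sup_right inf_le_right K : _ ≤ P ⊔ K) hx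
        rw [heq]
        exact closed_image hE (S5128.result p hS F hF _ K hinf hK)
    · refine Set.Subset.antisymm (fun φ' hφ' => ?_) fun φ' hφ' => innerFusionSystem_le N _ hφ'
      rw [hN P'] at hφ'
      obtain ⟨-, hPN, -, ψ', hψ', hψe, hψH⟩ := hφ'
      obtain ⟨-, g, hg, hgθ⟩ := H49.factor_map hE (isMap_of_mem hψ')
      have hHF := H49.preimage_isFullyNormalized hE hK hH'
      have hsub : preimageAlong θ H' ≤ preimageAlong θ (P' ⊔ H') := fun x hx => by
        obtain ⟨hxS, hx'⟩ := mem_preimageAlong.1 hx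
        exact mem_preimageAlong.2 ⟨hxS, Subgroup.mem_sup_right hx'⟩
      have hle : preimageAlong θ (P' ⊔ H') ≤ normalizerIn S (preimageAlong θ H') := fun x hx => by
        obtain ⟨hxS, hx'⟩ := mem_preimageAlong.1 hx
        have hnx := Subgroup.mem_normalizer_iff.1
          ((sup_le (fun y hy => (hPN hy).2) Subgroup.le_normalizer :
            P' ⊔ H' ≤ Subgroup.normalizer (H' : Set _)) hx')
        refine ⟨hxS, Subgroup.mem_normalizer_iff.2 fun y => ⟨fun hy => ?_, fun hy => ?_⟩⟩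
        · obtain ⟨hyS, hy'⟩ := mem_preimageAlong.1 hy
          refine mem_preimageAlong.2 ⟨S.mul_mem (S.mul_mem hxS hyS) (S.inv_mem hxS), ?_⟩
          exact (hnx _).1 hy'
        · obtain ⟨hyS, hy'⟩ := mem_preimageAlong.1 hy
          have hy0 : y ∈ S := by
            have := S.mul_mem (S.mul_mem (S.inv_mem hxS) hyS) hxS
            simpa [mul_assoc] using this
          exact mem_preimageAlong.2 ⟨hy0, (hnx _).2 hy'⟩
      obtain ⟨a, ha, hae⟩ := h.conj_of_stab hHF (hcard H' hHc) hg hsub hle fun x hx => by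
        obtain ⟨hxS, hx'⟩ := mem_preimageAlong.1 hx
        obtain ⟨hgS, he⟩ := hgθ ⟨x, hxS⟩ (Subgroup.mem_sup_right hx')
        refine mem_preimageAlong.2 ⟨hgS, ?_⟩
        rw [he]
        have h1 : ψ' ⟨θ ⟨x, hxS⟩, Subgroup.mem_sup_right hx'⟩ ∈ H' := hψH.le ⟨_, hx', rfl⟩
        rwa [← homFun_coe ψ'] at h1
      have hθa : θ ⟨a, normalizerIn_le ha⟩ ∈ normalizerIn (⊤ : Subgroup (S ⧸ K.subgroupOf S)) H' := by
        refine ⟨trivial, Subgroup.mem_normalizer_iff.2 fun y => ?_⟩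
        obtain ⟨s, rfl⟩ := QuotientGroup.mk'_surjective (K.subgroupOf S) y
        have hna := Subgroup.mem_normalizer_iff.1 (show a ∈ Subgroup.normalizer
          (preimageAlong θ H' : Set Ω) from ha.2) s
        constructor
        · intro hy
          obtain ⟨h1, h2⟩ := mem_preimageAlong.1 (hna.1 (mem_preimageAlong.2 ⟨s.2, hy⟩))
          exact h2
        · intro hy
          obtain ⟨h1, h2⟩ := mem_preimageAlong.1 (hna.2 (mem_preimageAlong.2
            ⟨S.mul_mem (S.mul_mem (normalizerIn_le ha) s.2) (S.inv_mem (normalizerIn_le ha)), hy⟩))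
          exact h2
      refine ⟨hPN, _, hθa, fun y => ?_⟩
      obtain ⟨s, hs⟩ := QuotientGroup.mk'_surjective (K.subgroupOf S) (y : S ⧸ K.subgroupOf S)
      have hsy : θ s ∈ P' ⊔ H' := Subgroup.mem_sup_left (hs ▸ y.2)
      obtain ⟨hgS, he⟩ := hgθ s hsy
      have h1 := hae s (mem_preimageAlong.2 ⟨s.2, hsy⟩)
      rw [← hψe y, ← homFun_coe ψ' (Subgroup.inclusion le_sup_left y), Subgroup.coe_inclusion, ← hs, ← he]
      rw [show (⟨g s, hgS⟩ : S) = ⟨a, normalizerIn_le ha⟩ * s * ⟨a, normalizerIn_le ha⟩⁻¹ from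
        Subtype.ext h1, map_mul, map_mul, map_inv]
  have hlt : Nat.card (⊤ : Subgroup (S ⧸ K.subgroupOf S)) < Nat.card S := by
    rw [← hS']
    exact lt_mul_of_one_lt_right Nat.card_pos hK1
  have hkS : p ^ (k - j) < Nat.card (⊤ : Subgroup (S ⧸ K.subgroupOf S)) := by
    refine lt_of_mul_lt_mul_right' (a := Nat.card K) ?_
    rw [hS', hj, ← pow_add, Nat.sub_add_cancel hjk.le]
    exact hk
  have hinner := IH E (k - j) hlt ((hS.to_quotient _).to_subgroup _)
    (H49.isSaturated_factor hS hF hK hE) (Nat.sub_pos_of_lt hjk) hkS hHyp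
  intro P f hf
  obtain ⟨φ, hφ, hφf⟩ := hf
  obtain ⟨⟨-, hmor⟩, -, -⟩ := H89.isSurjectiveMorphism_of_factor hS hF hK hE
  obtain ⟨φ', hφ', hPS, hφS, hmem, hind⟩ := hmor P φ hφ
  rw [hinner] at hφ'
  obtain ⟨-, c, -, hce⟩ := hφ'
  obtain ⟨g, rfl⟩ := QuotientGroup.mk'_surjective (K.subgroupOf S) c
  refine ⟨g, g.2, fun x hx => ?_⟩
  have h1 := (hind ⟨x, hx⟩).symm.trans (hce _)
  rw [← map_inv θ, ← map_mul, ← map_mul, eq_comm] at h1
  have h2 : θ ((g * ⟨x, hPS hx⟩ * g⁻¹)⁻¹ * ⟨φ ⟨x, hx⟩, hφS _⟩) = 1 := by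
    rw [map_mul, map_inv, h1, inv_mul_cancel]
  have h3 := (hθ _).1 h2
  rw [← hφf ⟨x, hx⟩]
  exact h3

end Quotient

section Main

variable {Ω : Type u} [Group Ω] {S : Subgroup Ω} [Finite S] {F : FusionSystem S} {p : ℕ} [Fact p.Prime]

theorem inner_of_no_small (hS : IsPGroup p S) (hF : F.IsSaturated p) {k : ℕ} (h : Hyp F (p ^ k))
    (hk1 : 1 ≤ k) (hk : p ^ k < Nat.card S)
    (hbig : ∀ X : Subgroup Ω, F.StronglyClosed X → X ≠ ⊥ → p ^ k ≤ Nat.card X) :
    ∀ P : Subgroup Ω, F.Hom P = (innerFusionSystem S).Hom P := by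
  have hSne : S ≠ ⊥ := fun hb => by
    rw [hb, Subgroup.card_bot] at hk
    exact absurd hk (Nat.one_le_pow _ _ (Fact.out : p.Prime).pos).not_gt
  obtain ⟨K, hK, -, hKne, hmin⟩ := exists_minimal (H89.stronglyClosed_top F) hSne
  have hKc : Nat.card K = p ^ k := le_antisymm (card_minimal_le hS h hk1 hK hmin) (hbig K hK hKne)
  by_cases hab : ⁅K, K⁆ = ⊥
  · exact inner_of_abelian_closed hS hF h hK hab hKc
  exfalso
  have hKS : K < S := lt_of_le_of_ne hK.1 fun he => hk.ne (by rw [← hKc, he])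
  obtain ⟨z, hz, hzo, hzc⟩ := exists_central hS hK.1 (sub_normalizer_of_closed hK) hKne
  have hz1 : z ≠ 1 := fun hz1 => (Fact.out : p.Prime).one_lt.ne (by rw [← hzo, hz1, orderOf_one])
  haveI := finite_of_le hK.1
  -- a nontrivial strongly closed subgroup of a subgroup of order `p ^ k` is the whole of it
  have hall : ∀ H X : Subgroup Ω, H ≤ S → Nat.card H = p ^ k → F.StronglyClosed X → X ≤ H → X ≠ ⊥ →
      F.StronglyClosed H := fun H X hHS hHc hX hXH hXne => by
    haveI := finite_of_le hHS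
    rw [← Subgroup.eq_of_le_of_card_ge hXH (hHc ▸ hbig X hX hXne)]
    exact hX
  obtain ⟨H, hHS, hzH, hHc, hHK⟩ := exists_other hS hK.1 hKc hKS hab hz hzc
  have hnH : ¬ F.StronglyClosed H := fun hH => by
    haveI := finite_of_le hHS
    rcases hmin _ (H89.stronglyClosed_inf hH hK) inf_le_right with he | he
    · exact hz1 (Subgroup.mem_bot.1 (he ▸ ⟨hzH, hz⟩))
    · exact hHK (Subgroup.eq_of_le_of_card_ge (he ▸ inf_le_left : K ≤ H) (hHc.trans hKc.symm).le).symm
  obtain ⟨P, hP, hsup, hinf⟩ := h.weak H hHS hHc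
  have hd : H ⊓ P = ⊥ := by
    by_contra hne
    exact hnH (hall H _ hHS hHc hinf inf_le_left hne)
  have hPne : P ≠ ⊥ := fun hb => hnH (by rwa [hb, sup_bot_eq] at hsup)
  have hzP : z ∉ P := fun hzP => hz1 (Subgroup.mem_bot.1 (hd ▸ ⟨hzH, hzP⟩))
  have hPK : P ⊓ K = ⊥ := (hmin _ (H89.stronglyClosed_inf hP hK) inf_le_right).resolve_right
    fun he => hzP ((he ▸ inf_le_left : K ≤ P) hz)
  obtain ⟨a, ha, hao, hac⟩ := exists_central hS hP.1 (sub_normalizer_of_closed hP) hPne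
  refine hab (abelian_of_pair hS hF h hk1 hP hK hKc hmin hPK ha hao hac ?_)
  intro H' B₁ hH'S hH'c haH' hB₁ hB₁H hB₁ne _ X hX hXH
  by_contra hXne
  have hH' := hall H' X hH'S hH'c hX hXH hXne
  rcases hmin _ (H89.stronglyClosed_inf hH' hK) inf_le_right with he | he
  · exact hB₁ne (le_bot_iff.1 (he ▸ le_inf hB₁H hB₁))
  · haveI := finite_of_le hH'S
    have := Subgroup.eq_of_le_of_card_ge (he ▸ inf_le_left : K ≤ H') (hH'c.trans hKc.symm).le
    have h1 : a ∈ P ⊓ K := ⟨ha, this ▸ haH'⟩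
    rw [hPK, Subgroup.mem_bot] at h1
    rw [h1, orderOf_one] at hao
    exact (Fact.out : p.Prime).one_lt.ne hao

theorem inner_of_small (hS : IsPGroup p S) (hF : F.IsSaturated p) {k : ℕ} (h : Hyp F (p ^ k))
    (hk1 : 1 ≤ k) (hk : p ^ k < Nat.card S)
    (hmod : ∀ X : Subgroup Ω, F.StronglyClosed X → X ≠ ⊥ → Nat.card X < p ^ k → ModK F X)
    {X₀ : Subgroup Ω} (hX₀ : F.StronglyClosed X₀) (hX₀ne : X₀ ≠ ⊥) (hX₀c : Nat.card X₀ < p ^ k) :
    ∀ P : Subgroup Ω, F.Hom P = (innerFusionSystem S).Hom P := by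
  by_contra hni
  obtain ⟨K, hK, hKX, hKne, hmin⟩ := exists_minimal hX₀ hX₀ne
  haveI := finite_of_le hK.1
  haveI := finite_of_le hX₀.1
  have hKc : Nat.card K < p ^ k := (Subgroup.card_le_of_le hKX).trans_lt hX₀c
  have hKm := hmod K hK hKne hKc
  have hKp : p < Nat.card K := by
    refine lt_of_le_of_ne ?_ fun he => hni (inner_of_card_p hS hF h hk.le hk1 hK he.symm hKm)
    obtain ⟨j, hj⟩ := IsPGroup.iff_card.1 (hS.to_le hK.1)
    rcases j with _ | j
    · exact absurd (Subgroup.card_eq_one.1 hj) hKne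
    · exact hj ▸ Nat.le_self_pow j.succ_ne_zero p
  obtain ⟨z, hz, hzo, hzc⟩ := exists_central hS hK.1 (sub_normalizer_of_closed hK) hKne
  have hz1 : z ≠ 1 := fun hz1 => (Fact.out : p.Prime).one_lt.ne (by rw [← hzo, hz1, orderOf_one])
  have hall : ∀ X : Subgroup Ω, F.StronglyClosed X → X ≠ ⊥ → K ≤ X := by
    intro X hX hXne
    by_contra hKX'
    have hXK : X ⊓ K = ⊥ := (hmin _ (H89.stronglyClosed_inf hX hK) inf_le_right).resolve_right
      fun he => hKX' (he ▸ inf_le_left)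
    obtain ⟨M, hM, hMX, hMne, hMmin⟩ := exists_minimal hX hXne
    have hMK : M ⊓ K = ⊥ := le_bot_iff.1 (hXK ▸ inf_le_inf_right K hMX)
    haveI := finite_of_le hM.1
    rcases (card_minimal_le hS h hk1 hM hMmin).lt_or_eq with hlt | heq
    · exact hni (inner_of_two hS hF hM (hmod M hM hMne hlt) hK hKm hMK)
    have hna : ⁅M, M⁆ ≠ ⊥ := fun hab => hni (inner_of_abelian_closed hS hF h hM hab heq)
    refine hna (abelian_of_pair hS hF h hk1 hK hM heq hMmin (inf_comm K M ▸ hMK) hz hzo hzc ?_)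
    intro H B₁ hHS hHc hzH hB₁ hB₁H hB₁ne hB₁c Y hY hYH
    by_contra hYne
    obtain ⟨M', hM', hM'Y, hM'ne, hM'min⟩ := exists_minimal hY hYne
    haveI := finite_of_le hHS
    rcases hmin _ (H89.stronglyClosed_inf hM' hK) inf_le_right with he | he
    · rcases (card_minimal_le hS h hk1 hM' hM'min).lt_or_eq with hlt | heq'
      · exact hni (inner_of_two hS hF hM' (hmod M' hM' hM'ne hlt) hK hKm he)
      have hHM' : M' = H := Subgroup.eq_of_le_of_card_ge (hM'Y.trans hYH) (hHc.trans heq'.symm).le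
      subst hHM'
      exact hz1 (Subgroup.mem_bot.1 (he ▸ ⟨hzH, hz⟩))
    · have hKH : K ≤ H := ((he ▸ inf_le_left : K ≤ M').trans hM'Y).trans hYH
      have hB₁S : B₁ ≤ S := hB₁.trans hM.1
      haveI := finite_of_le hB₁S
      have h1 := card_sup_mul_card_inf' (A := K) (X := B₁) (hB₁S.trans (sub_normalizer_of_closed hK))
      have h2 : K ⊓ B₁ = ⊥ := le_bot_iff.1 (hMK ▸ le_inf (inf_le_right.trans hB₁) inf_le_left)
      rw [h2, Subgroup.card_bot, mul_one] at h1
      have h3 : Nat.card K * Nat.card B₁ ≤ p * Nat.card B₁ := by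
        rw [← h1, hB₁c, ← hHc]
        exact Subgroup.card_le_of_le (sup_le hKH hB₁H)
      exact hKp.not_ge (Nat.le_of_mul_le_mul_right h3 Nat.card_pos)
  by_cases hKΦ : K ≤ (frattini ↥S).map S.subtype
  · exact hni (inner_of_le_frattini hS hF h hk.le hK hKc.le hKm hKΦ)
  obtain ⟨M, hMc, hKM⟩ : ∃ M : Subgroup S, IsCoatom M ∧ ¬ K.subgroupOf S ≤ M := by
    by_contra hcon
    push Not at hcon
    refine hKΦ fun x hx => ⟨⟨x, hK.1 hx⟩, ?_, rfl⟩
    simp only [frattini, Order.radical, SetLike.mem_coe, Subgroup.mem_iInf, Subgroup.mem_sInf,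
      Set.mem_setOf_eq]
    exact fun M hM => hcon M hM hx
  haveI := PGroups.normal_of_isCoatom hS hMc
  have hMi := PGroups.index_eq_of_isCoatom hS hMc
  haveI : (K.subgroupOf S).Normal := H89.normal_of_stronglyClosed hK
  have hKM1 : K.subgroupOf S ⊓ M ≠ ⊥ := by
    intro hb
    have h1 : M.relIndex (K.subgroupOf S) ≤ p :=
      hMi ▸ Subgroup.relIndex_top_right M ▸ Subgroup.relIndex_le_of_le_right le_top
        (by rw [Subgroup.relIndex_top_right, hMi]; exact (Fact.out : p.Prime).ne_zero)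
    rw [← Subgroup.inf_relIndex_right, inf_comm, hb, Subgroup.relIndex_bot_left,
      Nat.card_congr (Subgroup.subgroupOfEquivOfLe hK.1).toEquiv] at h1
    exact hKp.not_ge h1
  obtain ⟨w, hw, hwc, hwo⟩ := PGroups.exists_mem_center_orderOf_eq hS _ hKM1
  have hMcard : Nat.card M * p = Nat.card S := by rw [← hMi, Subgroup.card_mul_index]
  obtain ⟨m, hm⟩ := IsPGroup.iff_card.1 (hS.to_subgroup M)
  have hkm : k ≤ m := by
    rw [hm, ← pow_succ] at hMcard
    rw [← hMcard] at hk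
    exact Nat.lt_succ_iff.1 ((Nat.pow_lt_pow_iff_right (Fact.out : p.Prime).one_lt).1 hk)
  obtain ⟨U, hU, hwU⟩ := Sylow.exists_subgroup_card_pow_prime_le (G := M) p (m := k)
    (hm ▸ Nat.pow_dvd_pow p hkm) (Subgroup.zpowers ⟨w, hw.2⟩) (n := 1)
    (by rw [Nat.card_zpowers, pow_one, ← hwo, ← Subgroup.orderOf_coe]) hk1
  set H := (U.map M.subtype).map S.subtype with hHdef
  have hHS : H ≤ S := Subgroup.map_subtype_le _
  have hHc : Nat.card H = p ^ k := by rw [hHdef, Subgroup.card_subtype, Subgroup.card_subtype, hU]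
  have hwH : (w : Ω) ∈ H := ⟨w, ⟨⟨w, hw.2⟩, hwU (Subgroup.mem_zpowers _), rfl⟩, rfl⟩
  have hw1 : (w : Ω) ≠ 1 := fun hw1 => (Fact.out : p.Prime).one_lt.ne (by
    rw [← hwo, ← Subgroup.orderOf_coe, hw1, orderOf_one])
  have hnKH : ¬ K ≤ H := fun hKH => hKM fun x hx => by
    obtain ⟨y, hy, hye⟩ := hKH hx
    obtain ⟨v, -, rfl⟩ := hy
    have : (x : S) = (v : S) := Subtype.ext hye.symm
    exact this ▸ v.2
  obtain ⟨P, hP, hsup, hinf⟩ := h.weak H hHS hHc
  have hd : H ⊓ P = ⊥ := by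
    by_contra hne
    exact hnKH ((hall _ hinf hne).trans inf_le_left)
  by_cases hPb : P = ⊥
  · rw [hPb, sup_bot_eq] at hsup
    exact hnKH (hall H hsup fun hb => hw1 (Subgroup.mem_bot.1 (hb ▸ hwH)))
  · exact hw1 (Subgroup.mem_bot.1 (hd ▸ ⟨hwH, hall P hP hPb hw.1⟩))

theorem inner_aux : ∀ (n : ℕ) {Ω : Type u} [Group Ω] {S : Subgroup Ω} [Finite S] (F : FusionSystem S)
    (k : ℕ), Nat.card S ≤ n → IsPGroup p S → F.IsSaturated p → 1 ≤ k → p ^ k < Nat.card S →
      Hyp F (p ^ k) → ∀ P : Subgroup Ω, F.Hom P = (innerFusionSystem S).Hom P := by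
  intro n
  induction n using Nat.strong_induction_on with
  | _ n ih =>
    intro Ω _ S _ F k hn hS hF hk1 hk h
    have hmod : ∀ X : Subgroup Ω, F.StronglyClosed X → X ≠ ⊥ → Nat.card X < p ^ k → ModK F X :=
      fun X hX hne hc => modK_of_rec hS hF h hk (fun E k' hlt => ih _ (hlt.trans_le hn) E k' le_rfl)
        hX hne hc
    by_cases hbig : ∀ X : Subgroup Ω, F.StronglyClosed X → X ≠ ⊥ → p ^ k ≤ Nat.card X
    · exact inner_of_no_small hS hF h hk1 hk hbig
    · push Not at hbig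
      obtain ⟨X, hX, hne, hc⟩ := hbig
      exact inner_of_small hS hF h hk1 hk hmod hX hne hc

end Main

end Cfsg.Agent.H91.WeakEmb
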