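import Cfsg.Agent.H91.WeakEmb.Core
import Cfsg.Agent.H91.Replace

/-!
Two disjoint strongly closed subgroups force one of them to be abelian.
-/

set_option autoImplicit false
set_option linter.style.haveILetI false

namespace Cfsg.Agent.H91.WeakEmb

open Cfsg Cfsg.FusionSystem Cfsg.Agent.FusionSys
open Cfsg.FusionSystem (centralizerIn normalizerIn)

universe u

variable {Ω : Type u} [Group Ω] {S : Subgroup Ω} [Finite S] {F : FusionSystem S} {p : ℕ} [Fact p.Prime]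

theorem mem_sup_split {A B : Subgroup Ω} (hA : A ≤ S) (hB : S ≤ Subgroup.normalizer (B : Set Ω))
    {x : Ω} (hx : x ∈ A ⊔ B) : ∃ a ∈ A, ∃ b ∈ B, x = a * b := by
  have h : x ∈ ((A ⊔ B : Subgroup Ω) : Set Ω) := hx
  rw [Subgroup.coe_mul_of_left_le_normalizer_right A B (hA.trans hB)] at h
  obtain ⟨a, ha, b, hb, rfl⟩ := h
  exact ⟨a, ha, b, hb, rfl⟩

/-- A minimal nontrivial strongly closed subgroup inside `X`. -/
theorem exists_minimal {X : Subgroup Ω} (hX : F.StronglyClosed X) (hne : X ≠ ⊥) :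
    ∃ M : Subgroup Ω, F.StronglyClosed M ∧ M ≤ X ∧ M ≠ ⊥ ∧
      ∀ Y : Subgroup Ω, F.StronglyClosed Y → Y ≤ M → Y = ⊥ ∨ Y = M := by
  classical
  have hex : ∃ n, ∃ M : Subgroup Ω, F.StronglyClosed M ∧ M ≤ X ∧ M ≠ ⊥ ∧ Nat.card M = n :=
    ⟨_, X, hX, le_rfl, hne, rfl⟩
  obtain ⟨M, hM, hMX, hMne, hMc⟩ := Nat.find_spec hex
  refine ⟨M, hM, hMX, hMne, fun Y hY hYM => or_iff_not_imp_left.2 fun hY1 => ?_⟩
  haveI := finite_of_le hM.1
  exact Subgroup.eq_of_le_of_card_ge hYM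
    (hMc ▸ Nat.find_min' hex ⟨Y, hY, hYM.trans hMX, hY1, rfl⟩)

theorem exists_central (hS : IsPGroup p S) {X : Subgroup Ω} (hXS : X ≤ S)
    (hn : S ≤ Subgroup.normalizer (X : Set Ω)) (hne : X ≠ ⊥) :
    ∃ z ∈ X, orderOf z = p ∧ ∀ s ∈ S, z * s = s * z := by
  haveI : (X.subgroupOf S).Normal := Subgroup.normal_subgroupOf_iff_le_normalizer hXS |>.2 hn
  obtain ⟨t, ht, htc, hto⟩ := PGroups.exists_mem_center_orderOf_eq hS (X.subgroupOf S)
    (fun hb => hne (by
      rw [Subgroup.subgroupOf_eq_bot, disjoint_iff, inf_eq_left.2 hXS] at hb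
      exact hb))
  exact ⟨t, ht, by rw [Subgroup.orderOf_coe, hto],
    fun s hs => (congrArg Subtype.val (Subgroup.mem_center_iff.mp htc ⟨s, hs⟩)).symm⟩

/-- A minimal strongly closed subgroup is small. -/
theorem card_minimal_le (hS : IsPGroup p S) {k : ℕ} (h : Hyp F (p ^ k)) (hk1 : 1 ≤ k) {X : Subgroup Ω}
    (hX : F.StronglyClosed X) (hmin : ∀ Y : Subgroup Ω, F.StronglyClosed Y → Y ≤ X → Y = ⊥ ∨ Y = X) :
    Nat.card X ≤ p ^ k := by
  by_contra hgt
  rw [not_le] at hgt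
  haveI := finite_of_le hX.1
  obtain ⟨H, hH⟩ := Sylow.exists_subgroup_card_pow_prime p (n := k) (G := X) (by
    obtain ⟨j, hj⟩ := IsPGroup.iff_card.1 (hS.to_le hX.1)
    exact hj ▸ Nat.pow_dvd_pow p
      ((Nat.pow_le_pow_iff_right (Fact.out : p.Prime).one_lt).1 (hj ▸ hgt.le)))
  set Q := H.map X.subtype with hQdef
  have hQX : Q ≤ X := Subgroup.map_subtype_le _
  haveI := finite_of_le hQX
  have hQc : Nat.card Q = p ^ k := by rw [hQdef, Subgroup.card_subtype, hH]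
  have hQne : Q ≠ ⊥ := fun hb => by
    rw [hb, Subgroup.card_bot] at hQc
    exact (Nat.one_lt_pow (Nat.one_le_iff_ne_zero.1 hk1) (Fact.out : p.Prime).one_lt).ne hQc
  obtain ⟨P, hP, hsup, hinf⟩ := h.weak Q (hQX.trans hX.1) hQc
  have hd : Q ⊓ P = ⊥ := (hmin _ hinf (inf_le_left.trans hQX)).resolve_right fun he => by
    have : X ≤ Q := he ▸ inf_le_left
    exact hgt.not_ge ((Subgroup.card_le_of_le this).trans hQc.le)
  have hPX : P ⊓ X = ⊥ := (hmin _ (H89.stronglyClosed_inf hP hX) inf_le_right).resolve_right fun he => by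
    have hXP : X ≤ P := he ▸ inf_le_left
    exact hQne (by rw [← inf_eq_left.2 (hQX.trans hXP), hd])
  have hXs : X ≤ Q ⊔ P := by
    rcases hmin _ (H89.stronglyClosed_inf hsup hX) inf_le_right with he | he
    · exact absurd (le_bot_iff.1 (he ▸ le_inf le_sup_left hQX)) hQne
    · exact he ▸ inf_le_left
  have hXQ : X ≤ Q := fun x hx => by
    obtain ⟨a, ha, b, hb, rfl⟩ := mem_sup_split (hQX.trans hX.1) (sub_normalizer_of_closed hP) (hXs hx)
    have : b ∈ P ⊓ X := ⟨hb, by simpa using X.mul_mem (X.inv_mem (hQX ha)) hx⟩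
    rw [hPX, Subgroup.mem_bot] at this
    rwa [this, mul_one]
  exact hgt.not_ge ((Subgroup.card_le_of_le hXQ).trans hQc.le)

theorem abelian_of_pair (hS : IsPGroup p S) (hF : F.IsSaturated p) {k : ℕ} (h : Hyp F (p ^ k))
    (hk1 : 1 ≤ k) {A B : Subgroup Ω} (hA : F.StronglyClosed A) (hB : F.StronglyClosed B)
    (hBc : Nat.card B = p ^ k) (hmin : ∀ Y : Subgroup Ω, F.StronglyClosed Y → Y ≤ B → Y = ⊥ ∨ Y = B)
    (hAB : A ⊓ B = ⊥) {a : Ω} (ha : a ∈ A) (hao : orderOf a = p) (hac : ∀ s ∈ S, a * s = s * a)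
    (hH : ∀ H B₁ : Subgroup Ω, H ≤ S → Nat.card H = p ^ k → a ∈ H → B₁ ≤ B → B₁ ≤ H → B₁ ≠ ⊥ →
      p * Nat.card B₁ = p ^ k → ∀ X : Subgroup Ω, F.StronglyClosed X → X ≤ H → X = ⊥) :
    ⁅B, B⁆ = ⊥ := by
  obtain ⟨j, rfl⟩ : ∃ j, k = j + 1 := ⟨k - 1, (Nat.sub_add_cancel hk1).symm⟩
  haveI hfB := finite_of_le hB.1
  by_cases hj : j = 0
  · subst hj
    rw [zero_add, pow_one] at hBc
    haveI := isCyclic_of_prime_card hBc
    refine Subgroup.commutator_eq_bot_iff_le_centralizer.2 fun x hx y hy => ?_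
    letI := IsCyclic.commGroup (α := B)
    exact congrArg Subtype.val (mul_comm (⟨y, hy⟩ : B) ⟨x, hx⟩)
  haveI : (B.subgroupOf S).Normal :=
    Subgroup.normal_subgroupOf_iff_le_normalizer hB.1 |>.2 (sub_normalizer_of_closed hB)
  have hc : Nat.card (B.subgroupOf S) = p ^ (j + 1) :=
    (Nat.card_congr (Subgroup.subgroupOfEquivOfLe hB.1).toEquiv).trans hBc
  obtain ⟨M, hMn, hMB, hMc⟩ := PGroups.exists_normal_card_le hS (B.subgroupOf S) j
    (hc ▸ Nat.pow_le_pow_right (Fact.out : p.Prime).pos j.le_succ)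
  set B₁ := M.map S.subtype with hB₁
  have hB₁B : B₁ ≤ B := by
    rintro _ ⟨x, hx, rfl⟩
    exact hMB hx
  have hB₁c : Nat.card B₁ = p ^ j := by rw [hB₁, Subgroup.card_subtype, hMc]
  have hB₁ne : B₁ ≠ ⊥ := fun hb => by
    rw [hb, Subgroup.card_bot] at hB₁c
    exact (Nat.one_lt_pow hj (Fact.out : p.Prime).one_lt).ne hB₁c
  haveI := finite_of_le (hB₁B.trans hB.1)
  have haS : a ∈ S := hA.1 ha
  haveI := finite_of_le (Subgroup.zpowers_le.2 haS : Subgroup.zpowers a ≤ S)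
  set H := B₁ ⊔ Subgroup.zpowers a with hHdef
  have hHS : H ≤ S := sup_le (hB₁B.trans hB.1) (Subgroup.zpowers_le.2 haS)
  haveI := finite_of_le hHS
  have hnorm : Subgroup.zpowers a ≤ Subgroup.normalizer (B₁ : Set Ω) := Subgroup.zpowers_le.2 <|
    Subgroup.mem_normalizer_iff.2 fun y => by
      constructor
      · intro hy
        rwa [hac y (hB.1 (hB₁B hy)), mul_inv_cancel_right]
      · intro hy
        have h1 := hac _ (hB.1 (hB₁B hy))
        have : a * y * a⁻¹ = y := by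
          calc a * y * a⁻¹ = a⁻¹ * (a * (a * y * a⁻¹)) := by group
            _ = a⁻¹ * (a * y * a⁻¹ * a) := by rw [h1]
            _ = y := by group
        rwa [this] at hy
  have hd1 : B₁ ⊓ Subgroup.zpowers a = ⊥ :=
    le_bot_iff.1 (hAB ▸ le_inf (inf_le_right.trans (Subgroup.zpowers_le.2 ha)) (inf_le_left.trans hB₁B))
  have hHc : Nat.card H = p ^ (j + 1) := by
    have := card_sup_mul_card_inf' hnorm
    rw [hd1, Subgroup.card_bot, mul_one, hB₁c, Nat.card_zpowers, hao] at this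
    rw [hHdef, this, pow_succ]
  have haH : a ∈ H := Subgroup.mem_sup_right (Subgroup.mem_zpowers a)
  have hX := hH H B₁ hHS hHc haH hB₁B le_sup_left hB₁ne (by rw [hB₁c, pow_succ, mul_comm])
  obtain ⟨P, hP, hsup, hinf⟩ := h.weak H hHS hHc
  have hd : H ⊓ P = ⊥ := hX _ hinf inf_le_left
  have hPn := sub_normalizer_of_closed hP
  have hPB : P ⊓ B = ⊥ := (hmin _ (H89.stronglyClosed_inf hP hB) inf_le_right).resolve_right fun he =>
    hB₁ne (le_bot_iff.1 (hd ▸ le_inf le_sup_left (hB₁B.trans (he ▸ inf_le_left))))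
  have hBs : B ≤ H ⊔ P := by
    rcases hmin _ (H89.stronglyClosed_inf hsup hB) inf_le_right with he | he
    · exact absurd (le_bot_iff.1 (he ▸ le_inf (le_sup_left.trans le_sup_left) hB₁B)) hB₁ne
    · exact he ▸ inf_le_left
  haveI := finite_of_le hP.1
  haveI := finite_of_le (sup_le hHS hP.1)
  have heq : B ⊔ P = H ⊔ P := by
    refine Subgroup.eq_of_le_of_card_ge (sup_le hBs le_sup_right) ?_
    have h1 := card_sup_mul_card_inf' (A := P) (X := H) (hHS.trans hPn)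
    have h2 := card_sup_mul_card_inf' (A := P) (X := B) (hB.1.trans hPn)
    rw [inf_comm, hd, Subgroup.card_bot, mul_one, hHc, sup_comm] at h1
    rw [hPB, Subgroup.card_bot, mul_one, hBc, sup_comm] at h2
    rw [h1, h2]
  obtain ⟨b, hb, q, hq, habq⟩ := mem_sup_split hB.1 hPn
    (show a ∈ B ⊔ P from heq ▸ Subgroup.mem_sup_left haH)
  have hb1 : b ≠ 1 := by
    rintro rfl
    rw [one_mul] at habq
    have : a ∈ H ⊓ P := ⟨haH, habq ▸ hq⟩
    rw [hd, Subgroup.mem_bot] at this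
    rw [this, orderOf_one] at hao
    exact (Fact.out : p.Prime).one_lt.ne hao
  have hbAP : b ∈ A ⊔ P := by
    rw [show b = a * q⁻¹ by rw [habq, mul_inv_cancel_right]]
    exact Subgroup.mul_mem _ (Subgroup.mem_sup_left ha) (Subgroup.mem_sup_right (P.inv_mem hq))
  have hBAP : B ≤ A ⊔ P := by
    rcases hmin _ (H89.stronglyClosed_inf (S5128.result p hS F hF A P hA hP) hB) inf_le_right with he | he
    · have : b ∈ (A ⊔ P) ⊓ B := ⟨hbAP, hb⟩
      rw [he, Subgroup.mem_bot] at this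
      exact absurd this hb1
    · exact he ▸ inf_le_left
  have hcomm : ∀ {C : Subgroup Ω}, F.StronglyClosed C → C ⊓ B = ⊥ →
      C ≤ Subgroup.centralizer (B : Set Ω) := fun {C} hC hCB x hx y hy => by
    have h1 : x * y * x⁻¹ * y⁻¹ ∈ C ⊓ B := ⟨by
      rw [show x * y * x⁻¹ * y⁻¹ = x * (y * x⁻¹ * y⁻¹) by group]
      exact C.mul_mem hx (H89.conj_mem_of_stronglyClosed hC (hB.1 hy) (C.inv_mem hx)),
      B.mul_mem (H89.conj_mem_of_stronglyClosed hB (hC.1 hx) hy) (B.inv_mem hy)⟩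
    rw [hCB, Subgroup.mem_bot] at h1
    calc y * x = (x * y * x⁻¹ * y⁻¹)⁻¹ * (x * y) := by group
      _ = x * y := by rw [h1, inv_one, one_mul]
  exact Subgroup.commutator_eq_bot_iff_le_centralizer.2
    (hBAP.trans (sup_le (hcomm hA hAB) (hcomm hP hPB)))

end Cfsg.Agent.H91.WeakEmb
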